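import Mathlib
import Cfsg.Agent.Lib.ClassGr.Basic
import Cfsg.Agent.Lib.Fus2.Base
import Cfsg.Agent.S4035

/-!
# Class sizes of `p`-singular elements
-/

set_option autoImplicit false

namespace CfsgLib.ClassGr

open Subgroup Cfsg CfsgLib.Fgs CfsgLib.Kazarin
open scoped commutatorElement Pointwise

variable {G : Type*} [Group G] [Finite G] {p : ℕ} [hp : Fact p.Prime]

/-- the centralizer of the class of `a` -/
abbrev cc (a : G) : Subgroup G := (centralizer ({a} : Set G)).normalCore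

omit [Finite G] in
theorem mem_cc {a x : G} : x ∈ cc a ↔ ∀ g : G, Commute a (g * x * g⁻¹) :=
  forall_congr' fun _ => mem_cent_iff

omit [Finite G] in
theorem mem_cc_symm {a x : G} (h : x ∈ cc a) : a ∈ cc x := by
  refine mem_cc.mpr fun g => ?_
  have := ((mem_cc.mp h g⁻¹).map (MulAut.conj g)).symm
  simpa [mul_assoc] using this

theorem exists_mul_cop {H K : Subgroup G} (h : H.index.Coprime K.index) (g : G) :
    ∃ a ∈ H, ∃ b ∈ K, a * b = g := by
  obtain ⟨c, hc, d, hd, hcd⟩ := Coprime.exists_mul_of_coprime_relIndex (K := ⊤)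
    (H₁ := H) (H₂ := K) le_top (by rwa [relIndex_top_right, relIndex_top_right]) (mem_top g)
  exact ⟨c, hc, d, hd, hcd.symm⟩

theorem mem_cc_of_coprime {u v : G} (hc : (ix u).Coprime (ix v)) (hu : ¬ p ∣ ix u)
    (hv : ∃ k, orderOf v = p ^ k) : v ∈ cc u := by
  obtain ⟨Q, hQ⟩ := exists_sylow_le_of_not_dvd_index hu
  obtain ⟨R, hR⟩ := exists_sylow_mem hv
  obtain ⟨k, rfl⟩ := MulAction.exists_smul_eq G R Q
  have h1 : k * v * k⁻¹ ∈ centralizer {u} := hQ ⟨v, hR, rfl⟩
  intro g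
  obtain ⟨c, hc', d, hd, e⟩ := exists_mul_cop (H := centralizer {u})
    (K := centralizer {k * v * k⁻¹}) (by rwa [index_cent_conj]) (g * k⁻¹)
  have h2 : g * v * g⁻¹ = c * (k * v * k⁻¹) * c⁻¹ := by
    calc g * v * g⁻¹ = (g * k⁻¹) * (k * v * k⁻¹) * (g * k⁻¹)⁻¹ := by group
      _ = c * (d * (k * v * k⁻¹) * d⁻¹) * c⁻¹ := by rw [← e]; group
      _ = _ := by rw [← (mem_cent_iff.mp hd).eq, mul_inv_cancel_right]
  rw [h2]
  exact mul_mem (mul_mem hc' h1) (inv_mem hc')

theorem dvd_of_le {a b : G} (ha : ∃ k, orderOf a = p ^ k) (haZ : a ∉ center G)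
    (hc : (ix b).Coprime (ix a)) (hle : ix (b * a) ≤ ix b) : p ∣ ix b := by
  haveI := classStab_normal b
  obtain ⟨g, hg⟩ : ∃ g, ⁅g, a⁆ ≠ 1 := by
    by_contra hh
    push Not at hh
    exact haZ (mem_center_iff.mpr fun g => commutatorElement_eq_one_iff_mul_comm.mp (hh g))
  have h1 := commutatorElement_mem_classStab hc hle g
  have h2 := Nat.eq_one_of_dvd_coprimes hc ((relIndex_dvd_card _ _).trans (card_classStab_dvd b))
    (relIndex_dvd_index_of_normal_right (centralizer {a}) (classStab b))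
  have h3 : Commute a ⁅g, a⁆ := mem_cent_iff.mp (relIndex_eq_one.mp h2 h1)
  obtain ⟨k, hk⟩ := ha
  have h4 : ⁅g, a⁆ ^ p ^ k = 1 := by
    have e : g * a * g⁻¹ = ⁅g, a⁆ * a := by rw [commutatorElement_def]; group
    have e2 : (⁅g, a⁆ * a) ^ p ^ k = 1 := by rw [← e, conj_pow, ← hk, pow_orderOf_eq_one]; simp
    rwa [h3.symm.mul_pow, ← hk, pow_orderOf_eq_one, mul_one, hk] at e2
  obtain ⟨j, -, hj⟩ := (Nat.dvd_prime_pow hp.out).mp (orderOf_dvd_of_pow_eq_one h4)
  rcases j with _ | j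
  · exact absurd (orderOf_eq_one_iff.mp (by simpa using hj)) hg
  · exact (dvd_pow_self p j.succ_ne_zero).trans
      (hj ▸ (orderOf_dvd_natCard _ h1).trans (card_classStab_dvd b))

omit [Finite G] in
theorem dvd_orderOf {g : G} (h : ∃ k, orderOf g = p ^ k) (h1 : g ≠ 1) : p ∣ orderOf g := by
  obtain ⟨_ | k, hk⟩ := h
  · exact absurd (orderOf_eq_one_iff.mp (by simpa using hk)) h1
  · rw [hk]; exact dvd_pow_self p k.succ_ne_zero

theorem no_pair {a b : G} (ha : ∃ k, orderOf a = p ^ k) (hb : ∃ k, orderOf b = p ^ k)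
    (haZ : a ∉ center G) (hbZ : b ∉ center G) (hc : (ix a).Coprime (ix b)) (hpa : ¬ p ∣ ix a)
    (H : ∀ z : G, p ∣ orderOf z → (ix z).Coprime (ix a) ∨ (ix z).Coprime (ix b)) : False := by
  have ha1 : ix a ≠ 1 := fun h => haZ (index_cent_eq_one_iff.mp h)
  have hab : Commute a b := mem_cent_iff.mp (normalCore_le _ (mem_cc_of_coprime hc hpa hb))
  have hpb : p ∣ ix b := by
    have h1 : a * b ≠ 1 := fun h => by
      rw [ix, ix, eq_inv_of_mul_eq_one_right h, cent_inv, Nat.coprime_self] at hc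
      exact ha1 hc
    have h2 : ∃ k, orderOf (a * b) = p ^ k := by
      obtain ⟨i, hi⟩ := ha
      obtain ⟨j, hj⟩ := hb
      obtain ⟨k, -, hk⟩ := (Nat.dvd_prime_pow hp.out).mp
        (show orderOf (a * b) ∣ p ^ (i + j) by
          rw [pow_add, ← hi, ← hj]; exact hab.orderOf_mul_dvd_mul_orderOf)
      exact ⟨k, hk⟩
    have h3 : ix (a * b) ∣ ix a * ix b := by
      rw [← Core.index_inf_of_coprime_index hc]
      exact index_dvd_of_le fun g hg =>
        mem_cent_iff.2 ((mem_cent_iff.1 hg.1).mul_left (mem_cent_iff.1 hg.2))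
    have hpos : ∀ g : G, 0 < ix g := fun g => Nat.pos_of_ne_zero index_ne_zero_of_finite
    rcases H _ (dvd_orderOf h2 h1) with h | h
    · exact dvd_of_le ha haZ hc.symm
        (hab.eq ▸ Nat.le_of_dvd (hpos b) (h.dvd_of_dvd_mul_left h3))
    · exact absurd (dvd_of_le hb hbZ hc (Nat.le_of_dvd (hpos a) (h.dvd_of_dvd_mul_right h3))) hpa
  have s1 : ∀ g : G, (∃ k, orderOf g = p ^ k) → g ∉ cc b → (ix g).Coprime (ix a) := by
    intro g hg hgb
    refine (H g (dvd_orderOf hg fun h => hgb (h ▸ one_mem _))).resolve_right fun h => hgb ?_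
    exact mem_cc_symm (mem_cc_of_coprime h
      (fun h' => hp.out.ne_one (Nat.eq_one_of_dvd_coprimes h h' hpb)) hb)
  have s0 : ∀ P : Sylow p G, ∃ g ∈ (P : Subgroup G), g ∉ cc b := fun P =>
    SetLike.not_le_iff_exists.mp fun h =>
      not_dvd_index_of_sylow_le P (h.trans (normalCore_le _)) hpb
  have s2 : ∀ P : Sylow p G, (P : Subgroup G) ≤ cc a := by
    intro P u hu
    have key : ∀ g ∈ (P : Subgroup G), g ∉ cc b → g ∈ cc a := fun g hg hgb =>
      mem_cc_of_coprime (s1 g (orderOf_eq_pow_of_mem_isPGroup P.isPGroup' hg) hgb).symm hpa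
        (orderOf_eq_pow_of_mem_isPGroup P.isPGroup' hg)
    obtain ⟨g, hg, hgb⟩ := s0 P
    by_cases hub : u ∈ cc b
    · exact (mul_mem_cancel_right (key g hg hgb)).mp (key _ (mul_mem hu hg)
        fun h => hgb ((mul_mem_cancel_left hub).mp h))
    · exact key u hu hub
  have s3 : ∀ w ∈ centralizer ({a} : Set G), ¬ p ∣ orderOf w → ¬ p ∣ ix w := by
    intro w hw hpw
    have hcop : (orderOf a).Coprime (orderOf w) := by
      obtain ⟨k, hk⟩ := ha
      rw [hk]; exact ((Nat.Prime.coprime_iff_not_dvd hp.out).mpr hpw).pow_left k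
    have hcm := mem_cent_iff.mp hw
    have e := cent_mul_of_coprime hcm hcop
    rcases H (a * w) (by
      rw [hcm.orderOf_mul_eq_mul_orderOf_of_coprime hcop]
      exact (dvd_orderOf ha fun h => haZ (h ▸ one_mem _)).mul_right _) with h | h
    · exact absurd (Nat.eq_one_of_dvd_coprimes h (index_dvd_of_le (e ▸ inf_le_left)) dvd_rfl) ha1
    · exact fun h' => hp.out.ne_one (Nat.eq_one_of_dvd_coprimes h
        (h'.trans (index_dvd_of_le (e ▸ inf_le_right))) hpb)
  have hall : ∀ K : Subgroup G, ∀ x : G, (∀ w ∈ zpowers x, ¬ p ∣ orderOf w → w ∈ K) → cc a ≤ K →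
      x ∈ K := by
    intro K x h1 h2
    obtain ⟨u, w, -, hw, rfl, -, hu, hw'⟩ := exists_p_part p x
    obtain ⟨P, hP⟩ := exists_sylow_mem hu
    exact mul_mem (h2 (s2 P hP)) (h1 w hw hw')
  have s4 : centralizer {a} ≤ cc a := by
    intro x hx
    refine hall _ x (fun w hw hpw => mem_cc_symm fun g => ?_) le_rfl
    obtain ⟨Q, hQ⟩ := exists_sylow_le_of_not_dvd_index (s3 w (zpowers_le.mpr hx hw) hpw)
    refine hQ ?_
    have h1 : IsPGroup p (zpowers (g * a * g⁻¹)) := by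
      obtain ⟨k, hk⟩ := ha
      exact IsPGroup.of_card (n := k) (by
        rw [Nat.card_zpowers, ← hk]; exact (MulAut.conj g).orderOf_eq a)
    have h2 : g * a * g⁻¹ ∈ zpowers (g * a * g⁻¹) ⊓ normalizer ((Q : Subgroup G) : Set G) :=
      ⟨mem_zpowers _, centralizer_le_normalizer _ fun v hv =>
        (mem_cc.mp (mem_cc_symm (s2 Q hv)) g).eq⟩
    exact ((h1.inf_normalizer_sylow Q).le h2).2
  obtain ⟨P, haP⟩ := exists_sylow_mem ha
  have s5 : ∀ l ∈ cc a, ∃ u ∈ (P : Subgroup G), ∀ g ∈ (P : Subgroup G), ⁅l, g⁆ = ⁅u, g⁆ := by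
    intro l hl
    obtain ⟨hn, K, hK, -, hd, hs⟩ := Agent.S4035.result (G := cc a) (p := p) (fun x hx hd => by
      rw [ncard_carrier_eq_index] at hd
      exact s3 x (normalCore_le _ x.2) (by
        rw [Subgroup.orderOf_coe]; exact (Nat.Prime.coprime_iff_not_dvd hp.out).mp hx.symm)
        (hd.trans (index_cent_normal_dvd _ x))) (P.subtype (s2 P))
    have hl' : (⟨l, hl⟩ : cc a) ∈ ((P.subtype (s2 P) : Sylow p (cc a)) : Subgroup (cc a)) ⊔ K :=
      hs ▸ mem_top _
    rw [← SetLike.mem_coe, Subgroup.mul_normal] at hl'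
    obtain ⟨u, hu, e, he, hue⟩ := hl'
    refine ⟨u, hu, fun g hg => ?_⟩
    have h1 : (g : G) * e = e * g := congrArg Subtype.val
      (commute_of_normal_of_disjoint _ K hn hK (disjoint_iff.mpr hd) ⟨g, s2 P hg⟩ e hg he).eq
    have h2 : l = u * e := (congrArg Subtype.val hue).symm
    rw [h2, commutatorElement_def, commutatorElement_def]
    calc (u : G) * e * g * ((u : G) * e)⁻¹ * g⁻¹ = u * (e * g) * (e : G)⁻¹ * (u : G)⁻¹ * g⁻¹ := by group
      _ = _ := by rw [← h1]; group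
  have s6 : ∀ h : G, ∀ g ∈ (P : Subgroup G), ⁅h, g⁆ ∈ ⁅(P : Subgroup G), (P : Subgroup G)⁆ := by
    intro h
    have key : ∀ g ∈ (P : Subgroup G), g ∉ cc b → ⁅h, g⁆ ∈ ⁅(P : Subgroup G), (P : Subgroup G)⁆ := by
      intro g hg hgb
      obtain ⟨l, hl, c, hc', rfl⟩ := exists_mul_cop
        (s1 g (orderOf_eq_pow_of_mem_isPGroup P.isPGroup' hg) hgb).symm h
      obtain ⟨u, hu, e⟩ := s5 l (s4 hl)
      have : ⁅l * c, g⁆ = ⁅l, g⁆ := by
        rw [commutatorElement_def, commutatorElement_def]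
        calc l * c * g * (l * c)⁻¹ * g⁻¹ = l * (c * g) * c⁻¹ * l⁻¹ * g⁻¹ := by group
          _ = _ := by rw [← (mem_cent_iff.mp hc').eq]; group
      rw [this, e g hg]
      exact commutator_mem_commutator hu hg
    intro g hg
    by_cases hgb : g ∈ cc b
    · obtain ⟨g0, hg0, hg0b⟩ := s0 P
      have h1 := key _ (mul_mem hg hg0) fun h => hg0b ((mul_mem_cancel_left hgb).mp h)
      have h2 := (mem_normalizer_iff.mp (normalizer_commutator_ge_left _ _ hg) _).mp
        (key g0 hg0 hg0b)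
      have := mul_mem h1 (inv_mem h2)
      convert this using 1
      simp only [commutatorElement_def]; group
    · exact key g hg hgb
  refine ha1 (index_eq_one.mpr (eq_top_iff.mpr fun x _ => hall _ x (fun w _ hpw => ?_)
    (normalCore_le _)))
  have := Fus2.mem_centralizer_of_frattini ((Nat.Prime.coprime_iff_not_dvd hp.out).mpr hpw).symm
    P.isPGroup' fun y hy => Core.commutator_le_map_frattini P.isPGroup' (s6 w y hy)
  exact mem_cent_iff.mpr (this a haP)

theorem walk_sing (hZ : ¬ p ∣ Nat.card (center G)) {x y : G} (hx : p ∣ orderOf x)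
    (hy : p ∣ orderOf y) : ∃ z : G, p ∣ orderOf z ∧ ¬ (ix z).Coprime (ix x) ∧
      ¬ (ix z).Coprime (ix y) := by
  have key : ∀ x : G, p ∣ orderOf x → ∃ a : G, (∃ k, orderOf a = p ^ k) ∧ a ∉ center G ∧
      ix a ∣ ix x ∧ p ∣ orderOf a := by
    intro x hx
    have h1 : orderOf (x ^ (orderOf x / p)) = p := orderOf_pow_orderOf_div (orderOf_pos x).ne' hx
    exact ⟨_, ⟨1, by rw [h1, pow_one]⟩, fun h => hZ (h1 ▸ orderOf_dvd_natCard _ h),
      index_dvd_of_le (cent_le_cent_pow x _), h1.symm.dvd⟩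
  obtain ⟨a, ha, haZ, ha1, ha2⟩ := key x hx
  obtain ⟨b, hb, hbZ, hb1, -⟩ := key y hy
  by_contra hn
  have H : ∀ z : G, p ∣ orderOf z → (ix z).Coprime (ix a) ∨ (ix z).Coprime (ix b) := by
    intro z hz
    by_contra hh
    push Not at hh
    exact hn ⟨z, hz, fun h => hh.1 (h.coprime_dvd_right ha1), fun h => hh.2 (h.coprime_dvd_right hb1)⟩
  have hc : (ix a).Coprime (ix b) := (H a ha2).resolve_left fun h =>
    haZ (index_cent_eq_one_iff.mp ((Nat.coprime_self _).mp h))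
  by_cases hpa : p ∣ ix a
  · exact no_pair hb ha hbZ haZ hc.symm
      (fun h => hp.out.ne_one (Nat.eq_one_of_dvd_coprimes hc hpa h)) fun z hz => (H z hz).symm
  · exact no_pair ha hb haZ hbZ hc hpa H

end CfsgLib.ClassGr
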