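import Mathlib
import Cfsg.Agent.Lib.ClassGr.Sing
import Cfsg.Agent.Lib.LAE.Sylow
import Cfsg.Agent.Lib.Core.MinNormal
import Cfsg.Agent.Lib.FT.OddOrder
import Cfsg.Agent.S4035

/-!
# A vertex of the class size graph whose neighbours avoid the class sizes of its `p`-elements
-/

set_option autoImplicit false
set_option linter.unusedSectionVars false

namespace CfsgLib.ClassGr

open Subgroup Cfsg CfsgLib.Fgs
open scoped commutatorElement Pointwise

universe u

section

variable {G : Type*} [Group G] [Finite G] {p : ℕ}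

theorem dm_conj [Fact p.Prime] {x : G} (hx : ¬ p ∣ ix x) (P : Sylow p G) :
    ∃ g : G, g * x * g⁻¹ ∈ centralizer ((P : Subgroup G) : Set G) := by
  obtain ⟨Q, hQ⟩ := exists_sylow_le_of_not_dvd_index hx
  obtain ⟨k, rfl⟩ := MulAction.exists_smul_eq G Q P
  refine ⟨k, fun u hu => ?_⟩
  obtain ⟨v, hv, rfl⟩ := hu
  have := (mem_cent_iff.mp (hQ hv)).eq
  change k * v * k⁻¹ * (k * x * k⁻¹) = k * x * k⁻¹ * (k * v * k⁻¹)
  calc k * v * k⁻¹ * (k * x * k⁻¹) = k * (v * x) * k⁻¹ := by group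
    _ = _ := by rw [← this]; group

theorem dm_sylow {y : G} (hy : ∃ k, y ^ p ^ k = 1) : ∃ P : Sylow p G, y ∈ (P : Subgroup G) := by
  obtain ⟨k, hk⟩ := hy
  have : IsPGroup p (zpowers y) := by
    rintro ⟨_, n, rfl⟩
    exact ⟨k, Subtype.ext (by
      change (y ^ n) ^ p ^ k = 1
      rw [← zpow_natCast, ← zpow_mul, mul_comm, zpow_mul, zpow_natCast, hk, one_zpow])⟩
  obtain ⟨P, hP⟩ := this.exists_le_sylow
  exact ⟨P, hP (mem_zpowers y)⟩

theorem dm_pow {P : Subgroup G} (hP : IsPGroup p P) {y : G} (hy : y ∈ P) : ∃ k, y ^ p ^ k = 1 :=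
  (hP ⟨y, hy⟩).imp fun _ h => congrArg Subtype.val h

/-- A `p`-element has a conjugate in every subgroup of `p'`-index. -/
theorem dm_conj_mem [Fact p.Prime] {H : Subgroup G} (hH : ¬ p ∣ H.index) {y : G}
    (hy : ∃ k, y ^ p ^ k = 1) : ∃ g : G, g * y * g⁻¹ ∈ H := by
  obtain ⟨Q, hQ⟩ := exists_sylow_le_of_not_dvd_index hH
  obtain ⟨P, hP⟩ := dm_sylow hy
  obtain ⟨k, rfl⟩ := MulAction.exists_smul_eq G P Q
  exact ⟨k, hQ ⟨y, hP, rfl⟩⟩

theorem dm_central [Fact p.Prime] (h : ∀ x : G, ¬ p ∣ ix x) {y : G} (hy : ∃ k, y ^ p ^ k = 1) :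
    y ∈ center G := by
  obtain ⟨P, hP⟩ := dm_sylow hy
  have := Count.eq_top_of_forall_exists_conj_mem _ fun x => dm_conj (h x) P
  exact mem_center_iff.2 fun g => (this.ge (mem_top g) y hP).symm

theorem dm_solv (N : Subgroup G) [N.Normal] (h1 : Group.IsSolvable N) (h2 : Group.IsSolvable (G ⧸ N)) :
    Group.IsSolvable G :=
  Group.isSolvable_of_ker_le_range N.subtype (QuotientGroup.mk' N) (by simp)

theorem dm_odd (h : ∀ x : G, ¬ 2 ∣ ix x) : Group.IsSolvable G := by
  obtain ⟨S⟩ : Nonempty (Sylow 2 G) := inferInstance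
  have h1 : (S : Subgroup G) ≤ center G := fun y hy => dm_central h (dm_pow S.isPGroup' hy)
  refine dm_solv (center G) (Group.isSolvable_of_comm fun x y => Subtype.ext (mem_center_iff.1 y.2 x))
    (FT.odd_order_solvable (Nat.not_even_iff_odd.1 fun he => ?_))
  exact not_dvd_index_of_sylow_le S h1 he.two_dvd

theorem dm_odd_normal (N : Subgroup G) [N.Normal] (h : ∀ x ∈ N, ¬ 2 ∣ ix x) : Group.IsSolvable N :=
  dm_odd fun x hx => h x x.2 (hx.trans (index_cent_normal_dvd N x))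

theorem dm_ix_left {x y : G} (hc : Commute x y) (h : (orderOf x).Coprime (orderOf y)) :
    ix x ∣ ix (x * y) :=
  index_dvd_of_le (cent_le_cent_of_mem_zpowers (left_mem_zpowers_mul_of_coprime hc h))

theorem dm_ix_right {x y : G} (hc : Commute x y) (h : (orderOf x).Coprime (orderOf y)) :
    ix y ∣ ix (x * y) :=
  index_dvd_of_le (cent_le_cent_of_mem_zpowers (right_mem_zpowers_mul_of_coprime hc h))

theorem dm_coprime [hp : Fact p.Prime] {K : Subgroup G} (hK : ¬ p ∣ Nat.card K) {x y : G} (hx : x ∈ K)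
    (hy : ∃ k, y ^ p ^ k = 1) : (orderOf x).Coprime (orderOf y) := by
  obtain ⟨k, hk⟩ := hy
  exact Nat.Coprime.of_dvd (K.orderOf_dvd_natCard hx) (orderOf_dvd_of_pow_eq_one hk)
    (((Nat.Prime.coprime_iff_not_dvd hp.out).2 hK).symm.pow_right k)

theorem dm_eq_one [hp : Fact p.Prime] {K : Subgroup G} (hK : ¬ p ∣ Nat.card K) {x : G} (hx : x ∈ K)
    (hy : ∃ k, x ^ p ^ k = 1) : x = 1 :=
  orderOf_eq_one_iff.1 ((Nat.coprime_self _).1 (dm_coprime hK hx hy))

theorem dm_cent_zpowers (a : G) : centralizer (zpowers a : Set G) = centralizer {a} := by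
  rw [zpowers_eq_closure, centralizer_closure]

theorem dm_index_dvd {H K : Subgroup G} [K.Normal] (h : H ⊔ K = ⊤) : H.index ∣ Nat.card K := by
  have h1 : K.relIndex H = K.index := by rw [← relIndex_sup_right, h, relIndex_top_right]
  have h2 := H.card_mul_index
  have h3 := K.card_mul_index
  have h4 := (K.subgroupOf H).card_mul_index
  rw [← relIndex, h1] at h4
  refine ⟨Nat.card (K.subgroupOf H), Nat.eq_of_mul_eq_mul_right
    (Nat.pos_of_ne_zero (index_ne_zero_of_finite (H := K))) ?_⟩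
  rw [h3, ← h2, ← h4]
  ring

/-- The elements of `p`-power order whose class size is a `σ`-number. -/
def Ys (p : ℕ) (σ : Set ℕ) (G : Type*) [Group G] : Set G :=
  {y | (∃ k, y ^ p ^ k = 1) ∧ ∀ r : ℕ, r.Prime → r ∣ ix y → r ∈ σ}

/-- The hypothesis of the theorem. -/
structure Hy (p : ℕ) (σ : Set ℕ) (G : Type*) [Group G] : Prop where
  compl : ∃ K : Subgroup G, K.Normal ∧ ¬ p ∣ Nat.card K ∧ ∃ n, K.index ∣ p ^ n
  far : ∀ x : G, p ∣ ix x → ∀ r ∈ σ, ¬ r ∣ ix x
  gen : ∀ x : G, (∃ k, x ^ p ^ k = 1) → x ∈ closure (Ys p σ G)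

variable {σ : Set ℕ} [hp : Fact p.Prime]

theorem Hy.quot (h : Hy p σ G) (N : Subgroup G) [N.Normal] : Hy p σ (G ⧸ N) where
  compl := by
    obtain ⟨K, hK, h1, n, h2⟩ := h.compl
    exact ⟨K.map (QuotientGroup.mk' N), hK.map _ (QuotientGroup.mk'_surjective N),
      fun e => h1 (e.trans (card_map_dvd K _)), n,
      (index_map_dvd K (QuotientGroup.mk'_surjective N)).trans h2⟩
  far := by
    intro x hx r hr e
    obtain ⟨x, rfl⟩ := QuotientGroup.mk_surjective x
    exact h.far x (hx.trans (index_cent_quotient_dvd N x)) r hr (e.trans (index_cent_quotient_dvd N x))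
  gen := by
    rintro x ⟨k, hk⟩
    obtain ⟨x, rfl⟩ := QuotientGroup.mk_surjective x
    obtain ⟨a, b, -, hb, rfl, -, ⟨j, hj⟩, hb'⟩ := exists_p_part p x
    have h1 : (b : G ⧸ N) = 1 := by
      have h2 : orderOf (b : G ⧸ N) ∣ p ^ k :=
        (orderOf_dvd_of_mem_zpowers (mem_map_of_mem (QuotientGroup.mk' N) hb |>
          (MonoidHom.map_zpowers (QuotientGroup.mk' N) (a * b)).le)).trans
          (orderOf_dvd_of_pow_eq_one hk)
      exact orderOf_eq_one_iff.1 (Nat.eq_one_of_dvd_coprimes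
        (((Nat.Prime.coprime_iff_not_dvd hp.out).2 hb').pow_left k) h2
        (orderOf_map_dvd (QuotientGroup.mk' N) b))
    rw [QuotientGroup.mk_mul, h1, mul_one]
    have h3 := mem_map_of_mem (QuotientGroup.mk' N) (h.gen a ⟨j, hj ▸ pow_orderOf_eq_one a⟩)
    rw [MonoidHom.map_closure] at h3
    refine closure_mono ?_ h3
    rintro _ ⟨y, ⟨⟨i, hi⟩, hy⟩, rfl⟩
    exact ⟨⟨i, by rw [← map_pow, hi, map_one]⟩,
      fun r hr e => hy r hr (e.trans (index_cent_quotient_dvd N y))⟩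

/-- The case of an abelian minimal normal subgroup with `p` not a vertex of the quotient. -/
theorem dm_abelian {K V : Subgroup G} [K.Normal] [V.Normal] (hK : ¬ p ∣ Nat.card K) {n : ℕ}
    (hKn : K.index ∣ p ^ n) (far : ∀ x : G, p ∣ ix x → ¬ 2 ∣ ix x) (hv : ∃ x : G, p ∣ ix x)
    {l : ℕ} (hl : l.Prime) (hV1 : V ≠ ⊥) (hV : IsElementaryAbelian l V)
    (hmin : ∀ M : Subgroup G, M.Normal → M ≤ V → M = ⊥ ∨ M = V)
    (hq : ∀ x : G ⧸ V, ¬ p ∣ ix x) : Group.IsSolvable G := by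
  have hc : ∀ y : G, (∃ k, y ^ p ^ k = 1) → ∀ g : G, ⁅g, y⁆ ∈ V := by
    rintro y ⟨k, hk⟩ g
    have := mem_center_iff.1 (dm_central hq (y := (y : G ⧸ V))
      ⟨k, by rw [← QuotientGroup.mk_pow, hk, QuotientGroup.mk_one]⟩) (g : G ⧸ V)
    rw [← QuotientGroup.eq_one_iff]
    exact (map_commutatorElement (QuotientGroup.mk' V) g y).trans
      (commutatorElement_eq_one_iff_mul_comm.2 this)
  obtain ⟨P⟩ : Nonempty (Sylow p G) := inferInstance
  have hP : ¬ (P : Subgroup G) ≤ center G := fun e => by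
    obtain ⟨x, hx⟩ := hv
    exact not_dvd_index_of_sylow_le P (e.trans (center_le_cent x)) hx
  have hVc : ∀ v ∈ V, ∀ w ∈ V, v * w = w * v := fun v hv w hw =>
    congrArg Subtype.val (hV.1.is_comm.comm (⟨v, hv⟩ : V) ⟨w, hw⟩)
  have hVs : Group.IsSolvable V := Group.isSolvable_of_comm fun a b => Subtype.ext (hVc _ a.2 _ b.2)
  by_cases hlp : l = p
  · subst hlp
    obtain ⟨y, hy, hyZ⟩ := SetLike.not_le_iff_exists.1 hP
    have hy' := dm_pow P.isPGroup' hy
    have h1 : K ≤ centralizer {y} := fun k hk => by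
      have h2 : ⁅k, y⁆ ∈ K := by
        rw [commutatorElement_def, mul_assoc, mul_assoc, ← mul_assoc y]
        exact mul_mem hk (‹K.Normal›.conj_mem _ (inv_mem hk) y)
      exact mem_cent_iff.2 (commutatorElement_eq_one_iff_commute.1
        (dm_eq_one hK h2 ⟨1, by rw [pow_one]; exact hV.2 _ (hc y hy' k)⟩)).symm
    have h2 : l ∣ ix y := by
      obtain ⟨j, -, hj⟩ := (Nat.dvd_prime_pow hl).1 ((index_dvd_of_le h1).trans hKn)
      have : j ≠ 0 := fun e => hyZ (index_cent_eq_one_iff.1 (by rw [hj, e, pow_zero]))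
      rw [ix, hj]
      exact dvd_pow_self l this
    refine dm_solv K (dm_odd_normal K fun k hk e => ?_) ?_
    · have h3 : Commute k y := (mem_cent_iff.1 (h1 hk)).symm
      exact far (k * y) (h2.trans (dm_ix_right h3 (dm_coprime hK hk hy')))
        (e.trans (dm_ix_left h3 (dm_coprime hK hk hy')))
    · obtain ⟨j, -, hj⟩ := (Nat.dvd_prime_pow hl).1 hKn
      have := (IsPGroup.of_card (G := G ⧸ K) hj).isNilpotent
      infer_instance
  · have hVp : ¬ p ∣ Nat.card V := fun e => by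
      obtain ⟨x, hx, h1⟩ := Core.exists_mem_orderOf_eq_of_dvd_card hp.out e
      exact hlp ((Nat.prime_dvd_prime_iff_eq hp.out hl).1
        (h1 ▸ orderOf_dvd_of_pow_eq_one (hV.2 x hx))).symm
    set C := centralizer ((P : Subgroup G) : Set G) with hC
    have hN : normalizer ((P : Subgroup G) : Set G) ≤ C := fun g hg y hy => by
      have h1 : ⁅g, y⁆ ∈ (P : Subgroup G) := mul_mem ((mem_normalizer_iff.1 hg y).1 hy) (inv_mem hy)
      exact (commutatorElement_eq_one_iff_mul_comm.1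
        (dm_eq_one hVp (hc y (dm_pow P.isPGroup' hy) g) (dm_pow P.isPGroup' h1))).symm
    have hG : ∀ g : G, ∃ v ∈ V, ∃ c ∈ C, g = v * c := by
      intro g
      have h1 : g ∈ normalizer ((V ⊔ (P : Subgroup G) : Subgroup G) : Set G) := by
        refine LAE.mem_normalizer_of_conjS_le ?_
        rw [LAE.conjS_sup, LAE.conjS_eq_of_normal]
        refine sup_le le_sup_left fun x hx => ?_
        obtain ⟨y, hy, rfl⟩ := LAE.exists_of_mem_conjS hx
        have : g * y * g⁻¹ = ⁅g, y⁆ * y := by rw [commutatorElement_def]; group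
        rw [this]
        exact mul_mem_sup (hc y (dm_pow P.isPGroup' hy) g) hy
      obtain ⟨m, hm, c, hc', rfl⟩ := (LAE.isSylowIn_of_le P le_sup_right).frattini h1
      obtain ⟨v, hv, u, hu, rfl⟩ := mem_sup_of_normal_left.1 hm
      exact ⟨v, hv, u * c, hN (mul_mem (le_normalizer hu) hc'), mul_assoc _ _ _⟩
    have hVC : V ⊓ C = ⊥ := by
      refine (hmin _ ⟨fun w hw g => ?_⟩ inf_le_left).resolve_right fun e => hP fun y hy => ?_
      · obtain ⟨v, hv, c, hc', rfl⟩ := hG g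
        have h1 : c * w * c⁻¹ ∈ V := ‹V.Normal›.conj_mem _ hw.1 c
        have : v * c * w * (v * c)⁻¹ = c * w * c⁻¹ := by
          rw [show v * c * w * (v * c)⁻¹ = v * (c * w * c⁻¹) * v⁻¹ by group, hVc v hv _ h1,
            mul_inv_cancel_right]
        rw [this]
        exact ⟨h1, C.mul_mem (C.mul_mem hc' hw.2) (C.inv_mem hc')⟩
      · refine mem_center_iff.2 fun g => ?_
        obtain ⟨v, hv, c, hc', rfl⟩ := hG g
        exact ((C.mul_mem (e.ge hv).2 hc') y hy).symm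
    have key : ∀ v ∈ V, ∀ c ∈ C, (∀ w ∈ V, v ≠ ⁅w, c⁆) → ¬ 2 ∣ ix (v * c) := by
      intro v hv c hc' hw
      refine far _ (by_contra fun h1 => ?_)
      obtain ⟨g, hg⟩ := dm_conj h1 P
      obtain ⟨w, hw', d, hd, e⟩ := hG g⁻¹
      have h2 : w⁻¹ * v * (c * w * c⁻¹) ∈ C := by
        have : w⁻¹ * v * (c * w * c⁻¹) = d * (g * (v * c) * g⁻¹) * d⁻¹ * c⁻¹ := by
          rw [← inv_inv g, e]; group
        rw [this]
        exact C.mul_mem (C.mul_mem (C.mul_mem hd hg) (C.inv_mem hd)) (C.inv_mem hc')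
      have h3 : w⁻¹ * v * (c * w * c⁻¹) = 1 := mem_bot.1 (hVC ▸ ⟨V.mul_mem (V.mul_mem (V.inv_mem hw') hv)
        (‹V.Normal›.conj_mem _ hw' c), h2⟩)
      refine hw w hw' ?_
      calc v = w * (w⁻¹ * v * (c * w * c⁻¹)) * (c * w⁻¹ * c⁻¹) := by group
        _ = ⁅w, c⁆ := by rw [h3, commutatorElement_def]; group
    set D := centralizer (V : Set G) with hD
    have hVD : V ≤ D := fun v hv w hw => hVc w hw v hv
    obtain ⟨v₀, hv₀, hv1⟩ := (Subgroup.bot_or_exists_ne_one V).resolve_left hV1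
    have hDs : Group.IsSolvable D := by
      have : (D.map (QuotientGroup.mk' V)).Normal :=
        (inferInstance : D.Normal).map _ (QuotientGroup.mk'_surjective V)
      have h1 : Group.IsSolvable (D.map (QuotientGroup.mk' V)) := by
        refine dm_odd_normal _ ?_
        rintro _ ⟨d, hd, rfl⟩ e
        obtain ⟨v, hv, c, hc', rfl⟩ := hG d
        have h2 : c ∈ D := (D.mul_mem_cancel_left (hVD hv)).1 hd
        refine key v₀ hv₀ c hc' (fun w hw e' => hv1 (e'.trans
          (commutatorElement_eq_one_iff_mul_comm.2 (h2 w hw)))) (e.trans ?_)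
        have : QuotientGroup.mk' V (v * c) = ((v₀ * c : G) : G ⧸ V) := by
          rw [QuotientGroup.mk'_apply, QuotientGroup.mk_mul, QuotientGroup.mk_mul,
            (QuotientGroup.eq_one_iff v).2 hv, (QuotientGroup.eq_one_iff v₀).2 hv₀]
        rw [this]
        exact index_cent_quotient_dvd V _
      have : Group.IsSolvable (QuotientGroup.mk' V).ker := by rwa [QuotientGroup.ker_mk']
      have := Core.isSolvable_comap (QuotientGroup.mk' V) (D.map (QuotientGroup.mk' V))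
      exact Core.isSolvable_of_le (le_comap_map (QuotientGroup.mk' V) D)
    refine dm_solv D hDs (FT.odd_order_solvable (Nat.not_even_iff_odd.1 fun he => ?_))
    obtain ⟨g, hg⟩ := exists_prime_orderOf_dvd_card' (G := G ⧸ D) 2 he.two_dvd
    obtain ⟨g, rfl⟩ := QuotientGroup.mk_surjective g
    obtain ⟨v, hv, c, hc', rfl⟩ := hG g
    rw [QuotientGroup.mk_mul, (QuotientGroup.eq_one_iff v).2 (hVD hv), one_mul] at hg
    have h1 : c ∉ D := fun e => by
      rw [(QuotientGroup.eq_one_iff c).2 e, orderOf_one] at hg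
      omega
    have h2 : c * c ∈ D := by
      have h3 : ((c * c : G) : G ⧸ D) = 1 := by
        rw [QuotientGroup.mk_mul, ← sq, ← hg, pow_orderOf_eq_one]
      exact (QuotientGroup.eq_one_iff _).1 h3
    obtain ⟨w, hw, hw1⟩ : ∃ w ∈ V, ⁅w, c⁆ ≠ 1 := by
      by_contra h3
      push Not at h3
      exact h1 fun w hw => commutatorElement_eq_one_iff_mul_comm.1 (h3 w hw)
    have hmem : ∀ w ∈ V, ⁅w, c⁆ ∈ V := fun w hw => by
      rw [commutatorElement_def, mul_assoc, mul_assoc, ← mul_assoc c]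
      exact V.mul_mem hw (‹V.Normal›.conj_mem _ (V.inv_mem hw) c)
    have h3 : c * ⁅w, c⁆ * c⁻¹ = ⁅w, c⁆⁻¹ := by
      have := h2 _ (V.inv_mem hw)
      calc c * ⁅w, c⁆ * c⁻¹ = c * w * c⁻¹ * (c * c * w⁻¹) * c⁻¹ * c⁻¹ := by
            rw [commutatorElement_def]; group
        _ = ⁅w, c⁆⁻¹ := by rw [← this, commutatorElement_def]; group
    by_cases hl2 : l = 2
    · subst hl2
      have h4 : ⁅w, c⁆⁻¹ = ⁅w, c⁆ := inv_eq_of_mul_eq_one_right (by rw [← sq]; exact hV.2 _ (hmem w hw))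
      rw [h4, mul_inv_eq_iff_eq_mul] at h3
      let f : V → V := fun x => ⟨⁅(x : G), c⁆, hmem x x.2⟩
      have h5 : ¬ Function.Surjective f := fun hs => hw1 (congrArg Subtype.val
        (Finite.injective_iff_surjective.2 hs (a₁ := ⟨_, hmem w hw⟩) (a₂ := 1) (Subtype.ext (by
          change ⁅⁅w, c⁆, c⁆ = ⁅(1 : G), c⁆
          rw [commutatorElement_one_left]
          exact commutatorElement_eq_one_iff_mul_comm.2 h3.symm))))
      obtain ⟨u, hu⟩ := not_forall.1 h5
      obtain ⟨S, hS⟩ := exists_sylow_le_of_not_dvd_index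
        (key u u.2 c hc' fun x hx e => hu ⟨⟨x, hx⟩, Subtype.ext e.symm⟩)
      have h6 : (u : G) * c ∈ D := fun x hx =>
        (mem_cent_iff.1 (hS ((Core.isElementaryAbelian_isPGroup hV).le_sylow_of_normal S hx))).eq.symm
      exact h1 ((D.mul_mem_cancel_left (hVD u.2)).1 h6)
    · refine hw1 (eq_one_of_odd_index_of_isConj_inv _
        ((hl.odd_of_ne_two hl2).of_dvd_nat (orderOf_dvd_of_pow_eq_one (hV.2 _ (hmem w hw))))
        (Nat.not_even_iff_odd.1 fun e => ?_) (isConj_iff.2 ⟨c, h3⟩))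
      refine key _ (hmem w hw) 1 C.one_mem (fun x _ e => hw1 (by simpa using e)) ?_
      rw [mul_one]
      exact e.two_dvd

/-- The core-free case. -/
theorem dm_core (h : Hy p σ G) (hv : ∃ x : G, p ∣ ix x)
    (hR : ∀ N : Subgroup G, N.Normal → Group.IsSolvable N → N = ⊥) {y : G} (hy : y ∈ Ys p σ G)
    (hy1 : y ≠ 1) (hW : ∀ z : G, (∀ g : G, g * z * g⁻¹ ∈ centralizer {y}) → z = 1) : False := by
  obtain ⟨K, hK, hKp, n, hKn⟩ := h.compl
  have hcop : ∀ x : G, (∀ g : G, g * x * g⁻¹ ∉ centralizer {y}) → ∀ r ∈ σ, ¬ r ∣ ix x := by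
    intro x hx
    refine h.far x (by_contra fun h1 => ?_)
    obtain ⟨P, hP⟩ := dm_sylow hy.1
    obtain ⟨g, hg⟩ := dm_conj h1 P
    exact hx g (mem_cent_iff.2 (hg y hP))
  have hmul : ∀ x : G, (∀ g : G, g * x * g⁻¹ ∉ centralizer {y}) → ∀ a g : G,
      ∃ c ∈ centralizer {x}, ∃ d ∈ centralizer {a * y * a⁻¹}, c * d = g := by
    intro x hx a g
    refine exists_mul_cop (Nat.coprime_of_dvd fun r hr h1 h2 => ?_) g
    rw [index_cent_conj] at h2
    exact hcop x hx r (hy.2 r hr h2) h1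
  obtain ⟨x, hx⟩ : ∃ x : G, ∀ g : G, g * x * g⁻¹ ∉ centralizer {y} := by
    by_contra h1
    push Not at h1
    have h2 := Count.eq_top_of_forall_exists_conj_mem _ h1
    exact hy1 (hW y fun g => h2.ge (mem_top _))
  have hx1 : x ≠ 1 := fun e => hx 1 (by rw [e]; simp)
  obtain ⟨s, hs, hsx⟩ := Nat.exists_prime_and_dvd (mt orderOf_eq_one_iff.1 hx1)
  have := Fact.mk hs
  obtain ⟨x₀, hx₀, ho⟩ := Core.exists_mem_orderOf_eq_of_dvd_card (H := zpowers x) hs
    (by rwa [Nat.card_zpowers])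
  have hx₀1 : x₀ ≠ 1 := fun e => hs.one_lt.ne' (by rw [← ho, e, orderOf_one])
  have hxs : ∃ k, x₀ ^ s ^ k = 1 := ⟨1, by rw [pow_one, ← ho, pow_orderOf_eq_one]⟩
  have hd : ∀ g : G, g * x₀ * g⁻¹ ∉ centralizer {y} := fun g hg => hx₀1 (hW x₀ fun a => by
    obtain ⟨c, hc, d, hd, e⟩ := hmul x hx g⁻¹ (a⁻¹ * g)
    have h1 := (mem_cent_iff.1 (cent_le_cent_of_mem_zpowers hx₀ hc)).eq
    have h2 := (mem_cent_iff.1 hd).eq
    have h3 := (mem_cent_iff.1 hg).eq
    have ea : a = g * d⁻¹ * c⁻¹ := by rw [mul_assoc, ← mul_inv_rev, e]; group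
    refine mem_cent_iff.2 ?_
    change y * (a * x₀ * a⁻¹) = a * x₀ * a⁻¹ * y
    have h4 : c⁻¹ * x₀ * c = x₀ := by rw [mul_assoc, h1, inv_mul_cancel_left]
    have h5 : d * (g⁻¹ * y * g) * d⁻¹ = g⁻¹ * y * g := by
      rw [inv_inv] at h2
      rw [← h2, mul_inv_cancel_right]
    have h6 : g⁻¹ * y * g * x₀ = x₀ * (g⁻¹ * y * g) := by
      calc g⁻¹ * y * g * x₀ = g⁻¹ * (y * (g * x₀ * g⁻¹)) * g := by group
        _ = _ := by rw [h3]; group
    calc y * (a * x₀ * a⁻¹) = g * d⁻¹ * (d * (g⁻¹ * y * g) * d⁻¹ * (c⁻¹ * x₀ * c)) * d * g⁻¹ := by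
          rw [ea]; group
      _ = g * d⁻¹ * ((c⁻¹ * x₀ * c) * (d * (g⁻¹ * y * g) * d⁻¹)) * d * g⁻¹ := by rw [h4, h5, h6]
      _ = a * x₀ * a⁻¹ * y := by rw [ea]; group)
  have hsσ : s ∈ σ := hy.2 s hs (by_contra fun e => by
    obtain ⟨g, hg⟩ := dm_conj_mem e hxs
    exact hd g hg)
  have hsp : s ≠ p := fun e => by
    obtain ⟨z, hz⟩ := hv
    exact h.far z hz s hsσ (e ▸ hz)
  obtain ⟨S, hS⟩ := exists_sylow_le_of_not_dvd_index (hcop x₀ hd s hsσ)
  set X := centralizer ({x₀} : Set G) with hX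
  have hXS : X ≤ normalizer ((S : Subgroup G) : Set G) := by
    have h1 := (Cfsg.Agent.S4035.result (G := X) (p := s) (fun z hz e => by
      rw [ncard_carrier_eq_index, index_cent_subgroup] at e
      have h2 : Commute x₀ z := mem_cent_iff.1 z.2
      have h3 : (orderOf x₀).Coprime (orderOf (z : G)) := by
        rw [ho, Subgroup.orderOf_coe]; exact hz.symm
      refine hcop (x₀ * z) (fun g hg => hd g ?_) s hsσ (e.trans ?_)
      · obtain ⟨i, hi⟩ := left_mem_zpowers_mul_of_coprime h2 h3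
        rw [← hi]
        simpa using (centralizer {y}).zpow_mem hg i
      · rw [ix, cent_mul_of_coprime h2 h3, ← relIndex_mul_index (inf_le_left (a := X)),
          inf_relIndex_left]
        exact dvd_mul_right _ _) (S.subtype hS)).1
    rw [Sylow.coe_subtype] at h1
    exact (normal_subgroupOf_iff_le_normalizer hS).1 h1
  have hSK : (S : Subgroup G) ≤ K := fun u hu => by
    obtain ⟨k, hk⟩ := dm_pow S.isPGroup' hu
    rw [← QuotientGroup.eq_one_iff, ← orderOf_eq_one_iff]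
    refine Nat.eq_one_of_dvd_coprimes (((Nat.coprime_primes hs hp.out).2 hsp).pow k n)
      ((orderOf_map_dvd (QuotientGroup.mk' K) u).trans (orderOf_dvd_of_pow_eq_one hk))
      ((_root_.orderOf_dvd_natCard _).trans hKn)
  have hT : ¬ p ∣ (normalizer ((S : Subgroup G) : Set G)).index := fun e => by
    have h1 : normalizer ((S : Subgroup G) : Set G) ⊔ K = ⊤ := eq_top_iff.2 fun g _ => by
      obtain ⟨a, ha, b, hb, rfl⟩ := (LAE.isSylowIn_of_le S hSK).frattini' (le_normalizer_of_normal (mem_top g))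
      exact mul_mem_sup ha hb
    exact hKp (e.trans (dm_index_dvd h1))
  obtain ⟨a, ha⟩ := dm_conj_mem hT hy.1
  have hN : normalClosure {y} ≤ normalizer ((S : Subgroup G) : Set G) := by
    refine (closure_le _).2 fun z hz => ?_
    obtain ⟨w, hw, hz'⟩ := Group.mem_conjugatesOfSet_iff.1 hz
    rw [Set.mem_singleton_iff.1 hw] at hz'
    obtain ⟨g, rfl⟩ := isConj_iff.1 hz'
    obtain ⟨c, hc, d, hd', e⟩ := hmul x₀ hd a (g * a⁻¹)
    have h1 : g * y * g⁻¹ = c * (d * (a * y * a⁻¹) * d⁻¹) * c⁻¹ := by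
      rw [show g = c * d * a by rw [e]; group]; group
    rw [h1, ← (mem_cent_iff.1 hd').eq, mul_inv_cancel_right]
    exact mul_mem (mul_mem (hXS hc) ha) (inv_mem (hXS hc))
  have hSN := (LAE.isSylowIn_top S).inf_of_normal (N := normalClosure {y}) le_top
    (le_normalizer_of_normal)
  have hbot : (S : Subgroup G) ⊓ normalClosure {y} = ⊥ := by
    refine hR _ (normalizer_eq_top_iff.1 (eq_top_iff.2 fun g _ => LAE.mem_normalizer_of_conjS_le ?_)) ?_
    · have h1 : LAE.conjS g ((S : Subgroup G) ⊓ normalClosure {y}) ≤ normalClosure {y} :=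
        LAE.conjS_le_iff_forall.2 fun z hz => normalClosure_normal.conj_mem z hz.2 g
      exact hSN.le_of_normalizes (LAE.isPGroup_conjS hSN.isPGroup g) h1
        (h1.trans (LAE.le_normalizer_inf hN le_normalizer))
    · have := hSN.isPGroup.isNilpotent
      infer_instance
  obtain ⟨S', hS'⟩ := dm_sylow hxs
  have hx₀S : x₀ ∈ (S : Subgroup G) :=
    (LAE.isSylowIn_top S).le_of_le_normalizer (S'.isPGroup'.to_le (zpowers_le.2 hS')) le_top
      (hS.trans ((dm_cent_zpowers x₀).ge.trans (centralizer_le_normalizer _))) (mem_zpowers x₀)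
  have hyN : y ∈ normalClosure ({y} : Set G) := subset_normalClosure rfl
  have e1 : ⁅y, x₀⁆ ∈ (S : Subgroup G) :=
    (S : Subgroup G).mul_mem ((mem_normalizer_iff.1 (hN hyN) x₀).1 hx₀S) ((S : Subgroup G).inv_mem hx₀S)
  have e2 : ⁅y, x₀⁆ ∈ normalClosure ({y} : Set G) := by
    rw [commutatorElement_def, mul_assoc, mul_assoc, ← mul_assoc x₀]
    exact mul_mem hyN (normalClosure_normal.conj_mem _ (inv_mem hyN) x₀)
  have e3 : ⁅y, x₀⁆ = 1 := mem_bot.1 (hbot.le (mem_inf.2 ⟨e1, e2⟩))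
  refine hd 1 (mem_cent_iff.2 ?_)
  rw [one_mul, inv_one, mul_one]
  exact commutatorElement_eq_one_iff_commute.1 e3

end

theorem dm_aux {p : ℕ} [hp : Fact p.Prime] {σ : Set ℕ} (h2 : 2 ∈ σ) (n : ℕ) :
    ∀ (G : Type u) [Group G] [Finite G], Nat.card G = n → Hy p σ G → (∃ x : G, p ∣ ix x) →
      Group.IsSolvable G := by
  induction n using Nat.strong_induction_on with
  | _ n ih =>
  intro G _ _ hn h hv
  by_cases hR : ∀ N : Subgroup G, N.Normal → Group.IsSolvable N → N = ⊥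
  · exfalso
    obtain ⟨y, hy, hy1⟩ : ∃ y ∈ Ys p σ G, y ≠ 1 := by
      by_contra h1
      push Not at h1
      obtain ⟨x, hx⟩ := hv
      obtain ⟨z, hz⟩ := exists_prime_orderOf_dvd_card' (G := G) p (hx.trans (index_dvd_card _))
      have h3 := (closure_le (K := ⊥)).2 (fun y hy => h1 y hy)
        (h.gen z ⟨1, by rw [pow_one, ← hz, pow_orderOf_eq_one]⟩)
      rw [mem_bot.1 h3, orderOf_one] at hz
      exact hp.out.one_lt.ne hz
    set N := normalClosure ({y} : Set G) with hN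
    have hyN : y ∈ N := subset_normalClosure rfl
    set W := centralizer (N : Set G) with hW
    have hNW : N ⊓ W = ⊥ := hR _ inferInstance
      (Group.isSolvable_of_comm fun a b => Subtype.ext (b.2.2 a a.2.1))
    by_cases hW1 : W = ⊥
    · refine dm_core h hv hR hy hy1 fun z hz => mem_bot.1 (hW1 ▸ ?_)
      refine le_centralizer_iff.1 (show N ≤ centralizer (zpowers z : Set G) from ?_) (mem_zpowers z)
      rw [dm_cent_zpowers]
      refine (closure_le _).2 fun w hw => ?_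
      obtain ⟨u, hu, hw'⟩ := Group.mem_conjugatesOfSet_iff.1 hw
      rw [Set.mem_singleton_iff.1 hu] at hw'
      obtain ⟨g, rfl⟩ := isConj_iff.1 hw'
      have := (mem_cent_iff.1 (hz g⁻¹)).eq
      refine mem_cent_iff.2 ?_
      change z * (g * y * g⁻¹) = g * y * g⁻¹ * z
      calc z * (g * y * g⁻¹) = g * (g⁻¹ * z * g⁻¹⁻¹ * y) * g⁻¹ := by group
        _ = g * y * g⁻¹ * z := by rw [← this]; group
    · have h3 : Group.IsSolvable (G ⧸ W) := by
        refine ih _ (hn ▸ Core.card_quotient_lt_of_ne_bot hW1) _ rfl (h.quot W) (by_contra fun h4 => ?_)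
        push Not at h4
        obtain ⟨k, hk⟩ := hy.1
        have h5 := mem_center_iff.1 (dm_central h4 (y := (y : G ⧸ W))
          ⟨k, by rw [← QuotientGroup.mk_pow, hk, QuotientGroup.mk_one]⟩)
        refine hy1 (mem_bot.1 (hR (center G) inferInstance (Group.isSolvable_of_comm fun x y =>
          Subtype.ext (mem_center_iff.1 y.2 x)) ▸ mem_center_iff.2 fun g => ?_))
        have e1 : ⁅g, y⁆ ∈ N := N.mul_mem (normalClosure_normal.conj_mem _ hyN g) (N.inv_mem hyN)
        have e2 : ⁅g, y⁆ ∈ W := (QuotientGroup.eq_one_iff _).1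
          ((map_commutatorElement (QuotientGroup.mk' W) g y).trans
            (commutatorElement_eq_one_iff_mul_comm.2 (h5 g)))
        exact commutatorElement_eq_one_iff_mul_comm.1 (mem_bot.1 (hNW.le (mem_inf.2 ⟨e1, e2⟩)))
      refine hy1 (mem_bot.1 (hR N inferInstance (Group.isSolvable_of_isSolvable_injective
        (f := (QuotientGroup.mk' W).comp N.subtype) ((injective_iff_map_eq_one _).2 fun a ha =>
          Subtype.ext (mem_bot.1 (hNW.le (mem_inf.2 ⟨a.2, (QuotientGroup.eq_one_iff _).1 ha⟩))))) ▸ hyN))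
  · push Not at hR
    obtain ⟨N, hN, hNs, hN1⟩ := hR
    obtain ⟨l, V, hl, hV, hV1, hVN, hVe, hmin⟩ := Core.exists_elementaryAbelian_minimal_normal_le hN1
    by_cases hq : ∃ x : G ⧸ V, p ∣ ix x
    · exact dm_solv V (Core.isSolvable_of_le hVN)
        (ih _ (hn ▸ Core.card_quotient_lt_of_ne_bot hV1) _ rfl (h.quot V) hq)
    · obtain ⟨K, hK, hKp, m, hKm⟩ := h.compl
      exact dm_abelian hKp hKm (fun x hx => h.far x hx 2 h2) hv hl hV1 hVe hmin (not_exists.1 hq)

end CfsgLib.ClassGr
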