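import Mathlib
import Cfsg.Agent.Lib.Fgs.ClassSize
import Cfsg.Agent.Lib.Count.Basic
import Cfsg.Agent.Lib.Coprime.Action
import Cfsg.Agent.Lib.PLocal.PSolvable
import Cfsg.Agent.Lib.LAE.Sylow
import Cfsg.Agent.Lib.FPD.Main

/-!
# Powers of a prime dividing the class sizes of the non-central elements of prime-power order
-/

set_option autoImplicit false

namespace CfsgLib.ClassGr

open Subgroup Cfsg CfsgLib.Fgs

universe u

theorem pp_dvd_ncard {H : Type*} [Group H] [Finite H] {X : Set H}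
    (hX : ∀ x ∈ X, ∀ g : H, g * x * g⁻¹ ∈ X) {d : ℕ}
    (hd : ∀ x ∈ X, d ∣ (centralizer ({x} : Set H)).index) : d ∣ X.ncard := by
  classical
  have := Fintype.ofFinite H
  rw [Set.ncard_eq_toFinset_card', Finset.card_eq_sum_card_image ConjClasses.mk]
  refine Finset.dvd_sum fun c hc => ?_
  obtain ⟨x, hx, rfl⟩ := Finset.mem_image.1 hc
  rw [Set.mem_toFinset] at hx
  have : X.toFinset.filter (fun y => ConjClasses.mk y = ConjClasses.mk x) =
      Finset.univ.filter fun y => IsConj x y := by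
    ext y
    simp only [Finset.mem_filter, Set.mem_toFinset, Finset.mem_univ, true_and,
      ConjClasses.mk_eq_mk_iff_isConj]
    refine ⟨fun h => h.2.symm, fun h => ⟨?_, h.symm⟩⟩
    obtain ⟨g, rfl⟩ := isConj_iff.1 h
    exact hX x hx g
  rw [this, card_filter_isConj_eq_index]
  exact hd x hx

variable {G : Type u} [Group G] [Finite G] {p : ℕ} [hp : Fact p.Prime] {N : Subgroup G} [N.Normal]

theorem pp_rel (P : Sylow p G) {H : Subgroup G} {a : ℕ} (h : p ^ a ∣ H.index) :
    p ^ a ∣ H.relIndex P := by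
  have h1 := h.trans (index_dvd_of_le (inf_le_left : H ⊓ (P : Subgroup G) ≤ H))
  rw [← relIndex_mul_index (inf_le_right : H ⊓ (P : Subgroup G) ≤ P), inf_relIndex_right] at h1
  exact (((Nat.Prime.coprime_iff_not_dvd hp.out).2 P.not_dvd_index).pow_left a).dvd_of_dvd_mul_right h1

/-- The class equation in `P ∩ N`. -/
theorem pp_dvd (P : Sylow p G) {a : ℕ}
    (h : ∀ x ∈ (P : Subgroup G) ⊓ N, x ∉ centralizer (N : Set G) →
      p ^ a ∣ (centralizer ({x} : Set G)).index)
    (hP : ¬ (P : Subgroup G) ⊓ N ≤ centralizer (N : Set G)) :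
    p ^ a ∣ Nat.card ((P : Subgroup G) ⊓ N ⊓ centralizer (N : Set G) : Subgroup G) := by
  set T := N.subgroupOf (P : Subgroup G) with hT
  set Z := (N ⊓ centralizer (N : Set G)).subgroupOf (P : Subgroup G) with hZ
  have hZT : Z ≤ T := fun x hx => hx.1
  have h1 : p ^ a ∣ ((T : Set P) \ (Z : Set P)).ncard := by
    refine pp_dvd_ncard (fun x hx g => ?_) fun x hx => ?_
    · refine (Set.mem_sdiff _).2 ⟨(inferInstance : T.Normal).conj_mem x hx.1 g, fun e => hx.2 ?_⟩
      simpa [mul_assoc] using (inferInstance : Z.Normal).conj_mem _ e g⁻¹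
    · rw [index_cent_subgroup]
      exact pp_rel P (h x ⟨x.2, hx.1⟩ fun e => hx.2 ⟨hx.1, e⟩)
  have h2 : ((T : Set P) \ (Z : Set P)).ncard + Nat.card Z = Nat.card T :=
    Set.ncard_sdiff_add_ncard_of_subset hZT
  obtain ⟨x, hx, hxZ⟩ := SetLike.not_le_iff_exists.1 hP
  have h3 : 0 < ((T : Set P) \ (Z : Set P)).ncard :=
    (Set.ncard_pos (Set.toFinite _)).2 ⟨⟨x, hx.1⟩, hx.2, fun e => hxZ e.2⟩
  obtain ⟨k, hk⟩ := (P.isPGroup'.to_subgroup T).exists_card_eq
  have h4 : p ^ a ∣ Nat.card T := by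
    rw [hk]
    refine pow_dvd_pow p ((Nat.pow_le_pow_iff_right hp.out.one_lt).1 ?_)
    have := Nat.le_of_dvd h3 h1
    omega
  have h5 : p ^ a ∣ Nat.card Z := (Nat.dvd_add_right h1).1 (h2 ▸ h4)
  have h6 : Z.map (P : Subgroup G).subtype = (P : Subgroup G) ⊓ N ⊓ centralizer (N : Set G) := by
    rw [hZ, subgroupOf_map_subtype, inf_comm, inf_assoc]
  rwa [← h6, card_map_of_injective (subtype_injective _)]

/-- The case of a central Sylow `p`-subgroup of `N`. -/
theorem pp_central (P : Sylow p G)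
    (h : ∀ x ∈ N, x ∉ centralizer (N : Set G) → IsPrimePow (orderOf x) →
      p ∣ (centralizer ({x} : Set G)).index)
    (hP : (P : Subgroup G) ⊓ N ≤ centralizer (N : Set G)) :
    Group.IsSolvable N ∧ HasNormalPComplement p N := by
  set Q := ((LAE.isSylowIn_top P).inf_of_normal (N := N) le_top le_normalizer_of_normal).toSylow
  have hQ1 : normalizer ((Q : Subgroup N) : Set N) ≤ centralizer ((Q : Subgroup N) : Set N) :=
    fun g _ x hx => Subtype.ext (hP (show (x : G) ∈ (P : Subgroup G) ⊓ N from hx) g g.2).symm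
  have hc := MonoidHom.ker_transferSylow_isComplement' Q hQ1
  refine ⟨?_, Q, _, inferInstance, hc⟩
  set K := (pPrimeCore p N).map N.subtype with hK
  have := PLocal.PSolv.pPrimeCore_characteristic (p := p) (G := N)
  have hKn : K.Normal := inferInstance
  have hKp : (Nat.card K).Coprime p := by
    rw [hK, card_map_of_injective (subtype_injective _)]
    exact PLocal.PSolv.coprime_card_pPrimeCore
  obtain ⟨n, hn⟩ := P.isPGroup'.exists_card_eq
  set Z := N ⊓ centralizer (N : Set G) with hZ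
  have hPs : Group.IsSolvable (P : Subgroup G) := Coprime.isSolvable_of_isPGroup P.isPGroup'
  have h1 := Coprime.map_inf_centralizer (QuotientGroup.mk' Z) (K := K) (A := P) le_normalizer_of_normal
    (by rw [hn]; exact ((hKp.coprime_dvd_left (card_dvd_of_le inf_le_left)).symm.pow_left n)) (Or.inl hPs)
  have h2 : K ⊓ centralizer ((P : Subgroup G) : Set G) ≤ Z := by
    refine Count.le_of_primePow_mem _ _ fun x hx q k hq hk => ?_
    have hxN : x ∈ N := map_subtype_le _ hx.1
    refine ⟨hxN, by_contra fun e => ?_⟩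
    have hk0 : 0 < k := Nat.pos_of_ne_zero fun e' => e (by
      rw [e', pow_zero, orderOf_eq_one_iff] at hk
      rw [hk]; exact one_mem _)
    exact not_dvd_index_of_sylow_le P (fun u hu => mem_cent_iff.2 (hx.2 u hu).symm)
      (h x hxN e ⟨q, k, hq.prime, hk0, hk.symm⟩)
  have h3 : Group.IsSolvable (K.map (QuotientGroup.mk' Z)) := by
    refine FPD.box.coreN.amb (A := (P : Subgroup G).map (QuotientGroup.mk' Z))
      (FPD.map_norm _ le_normalizer_of_normal) (P.isPGroup'.map _).isNilpotent ?_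
    rw [← h1, Subgroup.map_eq_bot_iff, QuotientGroup.ker_mk']
    exact h2
  have h4 : Group.IsSolvable (QuotientGroup.mk' Z).ker := by
    rw [QuotientGroup.ker_mk']
    exact Group.isSolvable_of_comm fun a b => Subtype.ext (b.2.2 a a.2.1)
  have h5 := Core.isSolvable_comap (QuotientGroup.mk' Z) (K.map (QuotientGroup.mk' Z))
  have h6 : Group.IsSolvable K := Core.isSolvable_of_le (le_comap_map (QuotientGroup.mk' Z) K)
  have h7 : Group.IsSolvable (pPrimeCore p N) :=
    Coprime.isSolvable_of_mulEquiv ((pPrimeCore p N).equivMapOfInjective _ (subtype_injective N)).symm h6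
  have h8 : (MonoidHom.transferSylow Q hQ1).ker ≤ pPrimeCore p N := PLocal.PSolv.le_pPrimeCore inferInstance
    ((Nat.Prime.coprime_iff_not_dvd hp.out).2 (hc.index_eq_card ▸ Q.not_dvd_index)).symm
  obtain ⟨m, hm⟩ := Q.isPGroup'.exists_card_eq
  obtain ⟨j, -, hj⟩ := (Nat.dvd_prime_pow hp.out).1
    ((index_dvd_of_le h8).trans (hc.symm.index_eq_card.trans hm).dvd)
  have h9 := Coprime.isSolvable_of_isPGroup (IsPGroup.of_card (G := N ⧸ pPrimeCore p N) hj)
  exact Group.isSolvable_of_ker_le_range (pPrimeCore p N).subtype (QuotientGroup.mk' (pPrimeCore p N)) (by simp)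

end CfsgLib.ClassGr
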